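import Groth.Agent.EtBCVcomp.Main
import Groth.Agent.EtBCQ.Local
import Mathlib

/-! The derived base change map is étale local. -/

set_option autoImplicit false
set_option backward.isDefEq.respectTransparency false
set_option backward.isDefEq.respectTransparency.types false
set_option linter.style.haveILetI false
set_option linter.unusedSectionVars false
set_option linter.overlappingInstances false
set_option maxHeartbeats 1000000

universe u

open CategoryTheory CategoryTheory.Limits AlgebraicGeometry Opposite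

attribute [local instance] HasDerivedCategory.standard

noncomputable section

namespace Groth.Agent.EtBCVcomp

open DerivedCategory (Q Qh)
open Groth.Agent.EtBCBridge

/-- direct images always have unbounded derived functors -/
theorem hasRpushEt {X Y : Scheme.{u}} (f : X ⟶ Y) : DCoh.HasRpushEt X f :=
  (KInj.isDeforming_Qh (RPlusComp.hKinj X) (DCoh.pushEtKh X f)).hasRightDerivedFunctor
    (HomotopyCategory.quasiIso (EtCoh.Ab X) (ComplexShape.up ℤ))

theorem isKInjective_pull_etale {U X : Scheme.{u}} (v : U ⟶ X) [Etale v] (I : CochainComplex (EtCoh.Ab X) ℤ)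
    [I.IsKInjective] :
    CochainComplex.IsKInjective (((EtCoh.pull v).mapHomologicalComplex (ComplexShape.up ℤ)).obj I) := by
  haveI := EtMV.jcont_etale v
  haveI := EtShriekStalk.preservesFiniteLimits v
  haveI : (EtShriek.extZero v).PreservesMonomorphisms := inferInstance
  exact SiteCoh.isKInjective_of_adjunction
    ((EtShriek.extZeroAdj v).ofNatIsoRight (EtPushStalk.restrPullIso v)) I

theorem bcMap_congr_iff {X S Y T : Scheme.{u}} (g : T ⟶ S) (f f' : X ⟶ S) (h : Y ⟶ X) (e e' : Y ⟶ T) (hf : f = f')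
    (he : e = e') (w : e ≫ g = h ≫ f) (w' : e' ≫ g = h ≫ f') [PreservesFiniteLimits (EtCoh.pull e)]
    [PreservesFiniteLimits (EtCoh.pull e')] [PreservesFiniteLimits (EtCoh.pull f)]
    [PreservesFiniteLimits (EtCoh.pull f')] [DCoh.HasRpushEt T g] [DCoh.HasRpushEt Y h] [DCoh.HasRpushEt X f]
    [DCoh.HasRpushEt X f'] (adj : EtBC.pullD f ⊣ DCoh.RpushEt X f) (adj' : EtBC.pullD f' ⊣ DCoh.RpushEt X f')
    (K : DCoh.DEt T) (hi : IsIso (EtBC.bcMap g f h e w adj K)) : IsIso (EtBC.bcMap g f' h e' w' adj' K) := by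
  subst hf he
  rw [bcMap_change g f h e w' adj' adj]
  infer_instance

section Etale

variable {U X Y YU : Scheme.{u}} (v : U ⟶ X) [Etale v] (h : Y ⟶ X) (j : YU ⟶ U) (k : YU ⟶ Y) [Etale k]
  (H : IsPullback k j h v)

include H in
theorem isIso_bcCx_etale (J : CochainComplex (EtCoh.Ab Y) ℤ) :
    IsIso (bcCx h v j k H.w (𝟙 (((EtCoh.pull k).mapHomologicalComplex (ComplexShape.up ℤ)).obj J))) := by
  haveI : ∀ n, IsIso ((bcCx h v j k H.w
      (𝟙 (((EtCoh.pull k).mapHomologicalComplex (ComplexShape.up ℤ)).obj J))).f n) := fun n => by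
    haveI := EtBCQ.isIso_σBC_etale v h j k H (J.X n)
    simp only [bcCx, HomologicalComplex.id_f, CategoryTheory.Functor.map_id, Category.comp_id]
    exact inferInstanceAs (IsIso ((EtBCQ.σBC h v j k H.w).app (J.X n) ≫ 𝟙 _))
  exact HomologicalComplex.Hom.isIso_of_components _

include H in
theorem isIso_bcMap_etale [PreservesFiniteLimits (EtCoh.pull v)] [PreservesFiniteLimits (EtCoh.pull k)]
    [DCoh.HasRpushEt Y h] [DCoh.HasRpushEt YU j] [DCoh.HasRpushEt U v] (adj : EtBC.pullD v ⊣ DCoh.RpushEt U v)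
    (K : DCoh.DEt Y) : IsIso (EtBC.bcMap h v j k H.w adj K) := by
  obtain ⟨I', hI', ⟨φ⟩⟩ := (KInj.isDeforming_Qh (RPlusComp.hKinj Y) (DCoh.pushEtKh Y h)).res K
  haveI hI : CochainComplex.IsKInjective I'.as := hI'
  haveI := isKInjective_pull_etale k I'.as
  haveI := isIso_bcCx_etale v h j k H I'.as
  exact (isIso_bcMap_congr h v j k H.w adj (φ.symm : Qh.obj ((qh Y).obj I'.as) ≅ K)).1
    ((isIso_bcMap_iff_quasiIso h v j k H.w adj (𝟙 _)).2 inferInstance)

end Etale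

theorem isIso_homologyMap_of_map {U X : Scheme.{u}} (v : U ⟶ X) [PreservesFiniteLimits (EtCoh.pull v)]
    {K L : CochainComplex (EtCoh.Ab X) ℤ} (φ : K ⟶ L) (n : ℤ)
    [QuasiIso (((EtCoh.pull v).mapHomologicalComplex (ComplexShape.up ℤ)).map φ)] :
    IsIso ((EtCoh.pull v).map (HomologicalComplex.homologyMap φ n)) := by
  have h := ShortComplex.mapHomologyIso_hom_naturality
    ((HomologicalComplex.shortComplexFunctor (EtCoh.Ab X) (ComplexShape.up ℤ) n).map φ) (EtCoh.pull v)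
  haveI h0 : IsIso (ShortComplex.homologyMap ((EtCoh.pull v).mapShortComplex.map
      ((HomologicalComplex.shortComplexFunctor (EtCoh.Ab X) (ComplexShape.up ℤ) n).map φ))) :=
    (quasiIsoAt_iff_isIso_homologyMap (((EtCoh.pull v).mapHomologicalComplex (ComplexShape.up ℤ)).map φ) n).1
      ((quasiIso_iff (((EtCoh.pull v).mapHomologicalComplex (ComplexShape.up ℤ)).map φ)).1 ‹_› n)
  refine @IsIso.of_isIso_fac_left _ _ _ _ _ ((K.sc n).mapHomologyIso (EtCoh.pull v)).hom _ _ inferInstance ?_ h.symm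
  exact IsIso.comp_isIso' h0 inferInstance

variable {X S Y T : Scheme.{u}} (f : X ⟶ S) (g : T ⟶ S) (h : Y ⟶ X) (e : Y ⟶ T) (c : IsPullback e h g f)
  [PreservesFiniteLimits (EtCoh.pull e)] [PreservesFiniteLimits (EtCoh.pull f)]
  [DCoh.HasRpushEt T g] [DCoh.HasRpushEt Y h] [DCoh.HasRpushEt X f]

/-- one step: the outer map is an isomorphism and the upper square is étale -/
theorem quasiIso_pull_of_outer {U : Scheme.{u}} (v : U ⟶ X) [Etale v] {YU : Scheme.{u}} (j : YU ⟶ U) (k : YU ⟶ Y)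
    [Etale k] (c' : IsPullback k j h v) (wo : (k ≫ e) ≫ g = j ≫ v ≫ f) [PreservesFiniteLimits (EtCoh.pull v)]
    [PreservesFiniteLimits (EtCoh.pull k)] [PreservesFiniteLimits (EtCoh.pull (k ≫ e))]
    [PreservesFiniteLimits (EtCoh.pull (v ≫ f))] [DCoh.HasRpushEt YU j] [DCoh.HasRpushEt U (v ≫ f)]
    (adjo : EtBC.pullD (v ≫ f) ⊣ DCoh.RpushEt U (v ≫ f)) {I : CochainComplex (EtCoh.Ab T) ℤ} [I.IsKInjective]
    {J : CochainComplex (EtCoh.Ab Y) ℤ} [J.IsKInjective]
    (s : ((EtCoh.pull e).mapHomologicalComplex (ComplexShape.up ℤ)).obj I ⟶ J) [QuasiIso s]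
    (ho : IsIso (EtBC.bcMap g (v ≫ f) j (k ≫ e) wo adjo (Qh.obj ((qh T).obj I)))) :
    QuasiIso (((EtCoh.pull v).mapHomologicalComplex (ComplexShape.up ℤ)).map (bcCx g f h e c.w s)) := by
  haveI := isKInjective_pull_etale k J
  have q := (isIso_bcMap_iff_quasiIso g (v ≫ f) j (k ≫ e) wo adjo
    ((pullCompCx I k e).hom ≫ ((EtCoh.pull k).mapHomologicalComplex (ComplexShape.up ℤ)).map s ≫ 𝟙 _)).1 ho
  rw [bcCx_paste f g h e c.w v j k c'.w wo s (𝟙 _)] at q
  haveI := isIso_bcCx_etale v h j k c' J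
  rw [quasiIso_iff_comp_left, quasiIso_iff_comp_right] at q
  exact q

theorem isIso_pull_homology_of_chart (K : DCoh.DEt T) {I : CochainComplex (EtCoh.Ab T) ℤ} [I.IsKInjective]
    (φ : Qh.obj ((qh T).obj I) ≅ K) {J : CochainComplex (EtCoh.Ab Y) ℤ} [J.IsKInjective]
    (s : ((EtCoh.pull e).mapHomologicalComplex (ComplexShape.up ℤ)).obj I ⟶ J) [QuasiIso s]
    {U V : Scheme.{u}} (u : U ⟶ X) [Etale u] (v : V ⟶ S) [Etale v] (a : U ⟶ V) (ha : a ≫ v = u ≫ f)
    {Ti Yi : Scheme.{u}} (gi : Ti ⟶ V) (ti : Ti ⟶ T) (cT : IsPullback ti gi g v) (hi : Yi ⟶ U) (ei : Yi ⟶ Ti)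
    (cY : IsPullback ei hi gi a) [PreservesFiniteLimits (EtCoh.pull ei)] [PreservesFiniteLimits (EtCoh.pull a)]
    [PreservesFiniteLimits (EtCoh.pull ti)] [DCoh.HasRpushEt Ti gi] [DCoh.HasRpushEt Yi hi] [DCoh.HasRpushEt U a]
    (adji : EtBC.pullD a ⊣ DCoh.RpushEt U a)
    (hloc : IsIso (EtBC.bcMap gi a hi ei cY.w adji ((EtBC.pullD ti).obj K))) (n : ℤ) :
    IsIso ((EtCoh.pull u).map (HomologicalComplex.homologyMap (bcCx g f h e c.w s) n)) := by
  have hT : IsPullback (ei ≫ ti) hi g (a ≫ v) := cY.paste_horiz cT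
  rw [ha] at hT
  let k : Yi ⟶ Y := c.lift (ei ≫ ti) (hi ≫ u) (by rw [hT.w, Category.assoc])
  have hk : k ≫ e = ei ≫ ti := c.lift_fst _ _ _
  have c' : IsPullback k hi h u :=
    IsPullback.of_right (hk.symm ▸ hT : IsPullback (k ≫ e) hi g (u ≫ f)) (c.lift_snd _ _ _) c
  haveI : Etale k := MorphismProperty.of_isPullback (P := @Etale) c'.flip ‹Etale u›
  haveI : Etale ti := MorphismProperty.of_isPullback (P := @Etale) cT.flip ‹Etale v›
  haveI : PreservesFiniteLimits (EtCoh.pull k) := EtCohDesc.pull_preservesFiniteLimits _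
  haveI : PreservesFiniteLimits (EtCoh.pull (k ≫ e)) := EtCohDesc.pull_preservesFiniteLimits _
  haveI : PreservesFiniteLimits (EtCoh.pull (ei ≫ ti)) := EtCohDesc.pull_preservesFiniteLimits _
  haveI : PreservesFiniteLimits (EtCoh.pull u) := EtCohDesc.pull_preservesFiniteLimits _
  haveI : PreservesFiniteLimits (EtCoh.pull v) := EtCohDesc.pull_preservesFiniteLimits _
  haveI : PreservesFiniteLimits (EtCoh.pull (a ≫ v)) := EtCohDesc.pull_preservesFiniteLimits _
  haveI : PreservesFiniteLimits (EtCoh.pull (u ≫ f)) := EtCohDesc.pull_preservesFiniteLimits _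
  haveI := hasRpushEt v
  haveI := hasRpushEt (a ≫ v)
  haveI := hasRpushEt (u ≫ f)
  obtain ⟨adjV, -⟩ := exists_adj v
  obtain ⟨adjaV, -⟩ := exists_adj (a ≫ v)
  obtain ⟨adjUf, -⟩ := exists_adj (u ≫ f)
  have wo : (k ≫ e) ≫ g = hi ≫ u ≫ f := by rw [hk]; exact hT.w
  have wo' : (ei ≫ ti) ≫ g = hi ≫ a ≫ v := by rw [ha]; exact hT.w
  have ho := bcMap_congr_iff g (a ≫ v) (u ≫ f) hi (ei ≫ ti) (k ≫ e) ha hk.symm wo' wo adjaV adjUf K
    (isIso_bcMap_vcomp v g gi ti cT.w a hi ei cY.w wo' adjV adji adjaV K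
      (isIso_bcMap_etale v g gi ti cT adjV K) hloc)
  haveI := quasiIso_pull_of_outer f g h e c u hi k c' wo adjUf s
    ((isIso_bcMap_congr g (u ≫ f) hi (k ≫ e) wo adjUf φ).2 ho)
  exact isIso_homologyMap_of_map u (bcCx g f h e c.w s) n

include c in
theorem isIso_bcMap_of_etale_local (adj : EtBC.pullD f ⊣ DCoh.RpushEt X f) (K : DCoh.DEt T) {ι : Type u}
    (U : ι → X.Etale) (hU : EtCoh.Covers U) (V : ι → S.Etale) (a : ∀ i, (U i).left ⟶ (V i).left)
    (ha : ∀ i, a i ≫ (V i).hom = (U i).hom ≫ f) (Ti Yi : ι → Scheme.{u}) (gi : ∀ i, Ti i ⟶ (V i).left)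
    (ti : ∀ i, Ti i ⟶ T) (cT : ∀ i, IsPullback (ti i) (gi i) g (V i).hom) (hi : ∀ i, Yi i ⟶ (U i).left)
    (ei : ∀ i, Yi i ⟶ Ti i) (cY : ∀ i, IsPullback (ei i) (hi i) (gi i) (a i))
    [∀ i, PreservesFiniteLimits (EtCoh.pull (ei i))] [∀ i, PreservesFiniteLimits (EtCoh.pull (a i))]
    [∀ i, PreservesFiniteLimits (EtCoh.pull (ti i))] [∀ i, DCoh.HasRpushEt (Ti i) (gi i)]
    [∀ i, DCoh.HasRpushEt (Yi i) (hi i)] [∀ i, DCoh.HasRpushEt (U i).left (a i)]
    (adji : ∀ i, EtBC.pullD (a i) ⊣ DCoh.RpushEt (U i).left (a i))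
    (hloc : ∀ i, IsIso (EtBC.bcMap (gi i) (a i) (hi i) (ei i) (cY i).w (adji i) ((EtBC.pullD (ti i)).obj K))) :
    IsIso (EtBC.bcMap g f h e c.w adj K) := by
  obtain ⟨I', hI', ⟨φ⟩⟩ := (KInj.isDeforming_Qh (RPlusComp.hKinj T) (DCoh.pushEtKh T g)).res K
  haveI hI : CochainComplex.IsKInjective I'.as := hI'
  let φ' : Qh.obj ((qh T).obj I'.as) ≅ K := φ.symm
  obtain ⟨J, s, hJ, hs⟩ := RPlusComp.hKinj Y (((EtCoh.pull e).mapHomologicalComplex (ComplexShape.up ℤ)).obj I'.as)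
  refine (isIso_bcMap_congr g f h e c.w adj φ').1 ((isIso_bcMap_iff_quasiIso g f h e c.w adj s).2 ?_)
  refine (quasiIso_iff _).2 fun n => (quasiIsoAt_iff_isIso_homologyMap _ n).2 ?_
  refine EtBCQ.isIso_of_covers U hU _ fun i => ?_
  haveI : Etale (U i).hom := (U i).prop
  haveI : Etale (V i).hom := (V i).prop
  exact isIso_pull_homology_of_chart f g h e c K φ' s (U := (U i).left) (V := (V i).left) (U i).hom (V i).hom (a i) (ha i)
    (gi i) (ti i) (cT i) (hi i) (ei i) (cY i) (adji i) (hloc i) n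

end Groth.Agent.EtBCVcomp
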