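import Groth.Agent.EtBCBridge.Main
import Groth.Agent.EtBCQ.Vcomp
import Mathlib

/-! The derived base change map of a composite of two squares, on K-injective complexes. -/

set_option autoImplicit false
set_option backward.isDefEq.respectTransparency false
set_option backward.isDefEq.respectTransparency.types false
set_option linter.style.haveILetI false
set_option linter.unusedSectionVars false
set_option linter.overlappingInstances false
set_option maxHeartbeats 1000000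

universe u

open CategoryTheory CategoryTheory.Limits AlgebraicGeometry Opposite

attribute [local instance] HasDerivedCategory.standard

noncomputable section

namespace Groth.Agent.EtBCVcomp

open DerivedCategory (Q Qh)
open Groth.Agent.EtBCBridge

section One

variable {X S X' S' : Scheme.{u}} (f : X ⟶ S) (g : S' ⟶ S) (f' : X' ⟶ S') (g' : X' ⟶ X)
  (w : g' ≫ f = f' ≫ g) [PreservesFiniteLimits (EtCoh.pull g)] [PreservesFiniteLimits (EtCoh.pull g')]
  [DCoh.HasRpushEt X f] [DCoh.HasRpushEt X' f'] [DCoh.HasRpushEt S' g]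

theorem isIso_bcMap_congr (adj : EtBC.pullD g ⊣ DCoh.RpushEt S' g) {K K' : DCoh.DEt X} (φ : K ≅ K') :
    IsIso (EtBC.bcMap f g f' g' w adj K) ↔ IsIso (EtBC.bcMap f g f' g' w adj K') :=
  (MorphismProperty.isomorphisms _).arrow_mk_iso_iff (Arrow.isoMk
    ((EtBC.pullD g).mapIso ((DCoh.RpushEt X f).mapIso φ))
    ((DCoh.RpushEt X' f').mapIso ((EtBC.pullD g').mapIso φ)) (bcMap_natural f g f' g' w adj φ.hom))

/-- at a K-injective complex the derived base change map is the base change map on complexes -/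
theorem isIso_bcMap_iff_quasiIso (adj : EtBC.pullD g ⊣ DCoh.RpushEt S' g)
    {I : CochainComplex (EtCoh.Ab X) ℤ} {J : CochainComplex (EtCoh.Ab X') ℤ} [hI : I.IsKInjective]
    [hJ : J.IsKInjective] (s : ((EtCoh.pull g').mapHomologicalComplex (ComplexShape.up ℤ)).obj I ⟶ J) [QuasiIso s] :
    IsIso (EtBC.bcMap f g f' g' w adj (Qh.obj ((qh X).obj I))) ↔ QuasiIso (bcCx f g f' g' w s) := by
  obtain ⟨adj₀, h₀⟩ := exists_adj g
  haveI := RPlusComp.isIso_totalRightDerivedUnit f ((qh X).obj I) hI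
  haveI := RPlusComp.isIso_totalRightDerivedUnit f' ((qh X').obj J) hJ
  haveI : IsIso (Qh.map ((qh X').map s)) :=
    (NatIso.isIso_map_iff (DerivedCategory.quotientCompQhIso (EtCoh.Ab X')) s).2 inferInstance
  rw [bcMap_change f g f' g' w adj adj₀, isIso_comp_left_iff, ← DerivedCategory.isIso_Q_map_iff_quasiIso,
    ← NatIso.isIso_map_iff (DerivedCategory.quotientCompQhIso (EtCoh.Ab S'))]
  haveI : IsIso ((fac g').hom.app ((qh X).obj I) ≫ Qh.map ((qh X').map s)) :=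
    IsIso.comp_isIso' inferInstance ‹_›
  have h := bcMap_rep f g f' g' w adj₀ h₀ s
  refine (MorphismProperty.isomorphisms _).arrow_mk_iso_iff ?_
  refine Arrow.isoMk ((asIso ((EtBC.pullD g).map ((uR f).app ((qh X).obj I)))).symm ≪≫ (fac g).app _)
    (asIso ((DCoh.RpushEt X' f').map ((fac g').hom.app ((qh X).obj I) ≫ Qh.map ((qh X').map s))) ≪≫
      (asIso ((uR f').app ((qh X').obj J))).symm) ?_
  simp only [Arrow.mk_left, Arrow.mk_right, Arrow.mk_hom, Iso.trans_hom, Iso.symm_hom, asIso_inv, asIso_hom,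
    Iso.app_hom, Category.assoc, IsIso.inv_comp_eq]
  refine (cancel_mono ((uR f').app ((qh X').obj J))).1 ?_
  simp only [Category.assoc, IsIso.inv_hom_id, Category.comp_id]
  exact h.symm

end One

variable {X S Y T W Z : Scheme.{u}} (f : X ⟶ S) (g : T ⟶ S) (h : Y ⟶ X) (e : Y ⟶ T) (w₁ : e ≫ g = h ≫ f)
  (i : W ⟶ X) (j : Z ⟶ W) (k : Z ⟶ Y) (w₂ : k ≫ h = j ≫ i) (wo : (k ≫ e) ≫ g = j ≫ i ≫ f)

/-- pullback along a composite, on complexes -/
def pullCompCx (I : CochainComplex (EtCoh.Ab T) ℤ) {Y Z : Scheme.{u}} (k : Z ⟶ Y) (e : Y ⟶ T) :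
    ((EtCoh.pull (k ≫ e)).mapHomologicalComplex (ComplexShape.up ℤ)).obj I ≅
      ((EtCoh.pull k).mapHomologicalComplex (ComplexShape.up ℤ)).obj
        (((EtCoh.pull e).mapHomologicalComplex (ComplexShape.up ℤ)).obj I) :=
  HomologicalComplex.Hom.isoOfComponents (fun n => (EtCore.pullComp k e).app (I.X n))
    fun a b _ => ((EtCore.pullComp k e).hom.naturality (I.d a b)).symm

theorem bcCx_paste {I : CochainComplex (EtCoh.Ab T) ℤ} {J₁ : CochainComplex (EtCoh.Ab Y) ℤ}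
    {J₂ : CochainComplex (EtCoh.Ab Z) ℤ}
    (s₁ : ((EtCoh.pull e).mapHomologicalComplex (ComplexShape.up ℤ)).obj I ⟶ J₁)
    (s₂ : ((EtCoh.pull k).mapHomologicalComplex (ComplexShape.up ℤ)).obj J₁ ⟶ J₂) :
    bcCx g (i ≫ f) j (k ≫ e) wo ((pullCompCx I k e).hom ≫
        ((EtCoh.pull k).mapHomologicalComplex (ComplexShape.up ℤ)).map s₁ ≫ s₂) =
      (pullCompCx _ i f).hom ≫ ((EtCoh.pull i).mapHomologicalComplex (ComplexShape.up ℤ)).map (bcCx g f h e w₁ s₁) ≫
        bcCx h i j k w₂ s₂ := by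
  refine HomologicalComplex.hom_ext _ _ fun n => ?_
  have hp := EtBCQ.σBC_paste f g h e w₁ i j k w₂ wo (I.X n)
  have hn := (EtBCQ.σBC h i j k w₂).naturality (s₁.f n)
  simp only [bcCx, pullCompCx, HomologicalComplex.comp_f, HomologicalComplex.Hom.isoOfComponents_hom_f, Iso.app_hom,
    Functor.mapHomologicalComplex_map_f, Functor.map_comp, Category.assoc]
  show (EtBCQ.σBC g (i ≫ f) j (k ≫ e) wo).app (I.X n) ≫ _ = _
  rw [hp]
  simp only [Category.assoc, ← Functor.map_comp, Iso.inv_hom_id_app_assoc]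
  rw [Functor.map_comp]
  erw [← reassoc_of% hn]
  rfl

variable [PreservesFiniteLimits (EtCoh.pull f)] [PreservesFiniteLimits (EtCoh.pull i)]
  [PreservesFiniteLimits (EtCoh.pull (i ≫ f))] [PreservesFiniteLimits (EtCoh.pull e)]
  [PreservesFiniteLimits (EtCoh.pull k)] [PreservesFiniteLimits (EtCoh.pull (k ≫ e))]
  [DCoh.HasRpushEt T g] [DCoh.HasRpushEt Y h] [DCoh.HasRpushEt Z j] [DCoh.HasRpushEt X f]
  [DCoh.HasRpushEt W i] [DCoh.HasRpushEt W (i ≫ f)]

include w₁ w₂ in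
theorem isIso_bcMap_vcomp (adj₁ : EtBC.pullD f ⊣ DCoh.RpushEt X f) (adj₂ : EtBC.pullD i ⊣ DCoh.RpushEt W i)
    (adj₃ : EtBC.pullD (i ≫ f) ⊣ DCoh.RpushEt W (i ≫ f)) (K : DCoh.DEt T)
    (h1 : IsIso (EtBC.bcMap g f h e w₁ adj₁ K))
    (h2 : IsIso (EtBC.bcMap h i j k w₂ adj₂ ((EtBC.pullD e).obj K))) :
    IsIso (EtBC.bcMap g (i ≫ f) j (k ≫ e) wo adj₃ K) := by
  obtain ⟨I', hI', ⟨φ⟩⟩ := (KInj.isDeforming_Qh (RPlusComp.hKinj T) (DCoh.pushEtKh T g)).res K
  let I : CochainComplex (EtCoh.Ab T) ℤ := I'.as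
  haveI hI : I.IsKInjective := hI'
  let φ' : Qh.obj ((qh T).obj I) ≅ K := φ.symm
  obtain ⟨J₁, s₁, hJ₁, hs₁⟩ := RPlusComp.hKinj Y (((EtCoh.pull e).mapHomologicalComplex (ComplexShape.up ℤ)).obj I)
  obtain ⟨J₂, s₂, hJ₂, hs₂⟩ := RPlusComp.hKinj Z (((EtCoh.pull k).mapHomologicalComplex (ComplexShape.up ℤ)).obj J₁)
  haveI : IsIso (Qh.map ((qh Y).map s₁)) :=
    (NatIso.isIso_map_iff (DerivedCategory.quotientCompQhIso (EtCoh.Ab Y)) s₁).2 inferInstance
  let ψ : (EtBC.pullD e).obj K ≅ Qh.obj ((qh Y).obj J₁) :=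
    (EtBC.pullD e).mapIso φ'.symm ≪≫ (fac e).app ((qh T).obj I) ≪≫ asIso (Qh.map ((qh Y).map s₁))
  have q1 := (isIso_bcMap_iff_quasiIso g f h e w₁ adj₁ s₁).1 ((isIso_bcMap_congr g f h e w₁ adj₁ φ').2 h1)
  have q2 := (isIso_bcMap_iff_quasiIso h i j k w₂ adj₂ s₂).1 ((isIso_bcMap_congr h i j k w₂ adj₂ ψ).1 h2)
  refine (isIso_bcMap_congr g (i ≫ f) j (k ≫ e) wo adj₃ φ').1
    ((isIso_bcMap_iff_quasiIso g (i ≫ f) j (k ≫ e) wo adj₃
      ((pullCompCx I k e).hom ≫ ((EtCoh.pull k).mapHomologicalComplex (ComplexShape.up ℤ)).map s₁ ≫ s₂)).2 ?_)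
  rw [bcCx_paste f g h e w₁ i j k w₂ wo s₁ s₂]
  infer_instance

end Groth.Agent.EtBCVcomp
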